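import Mathlib

/-!
# Killing a module locally at minimal primes over a principal ideal
-/

set_option autoImplicit false
universe u

namespace Groth.Agent.ModifLib

variable {A : Type u} [CommRing A]

theorem exists_mul_pow_mem (I P : Ideal A) [hP : P.IsPrime] (h : P ∈ I.minimalPrimes) {a : A} (ha : a ∈ P) :
    ∃ t : A, t ∉ P ∧ ∃ N : ℕ, t * a ^ N ∈ I := by
  have hrad : algebraMap A (Localization.AtPrime P) a ∈ (I.map (algebraMap A (Localization.AtPrime P))).radical := by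
    rw [Ideal.radical_eq_sInf, Submodule.mem_sInf]
    rintro Q ⟨hQI, hQ⟩
    have h1 : Ideal.comap (algebraMap A (Localization.AtPrime P)) Q ≤ P := fun x hx => by
      by_contra hxP
      exact hQ.ne_top (Ideal.eq_top_of_isUnit_mem _ hx (IsLocalization.map_units (Localization.AtPrime P) (⟨x, hxP⟩ : P.primeCompl)))
    have h2 : P ≤ Ideal.comap (algebraMap A (Localization.AtPrime P)) Q :=
      h.2 ⟨Ideal.comap_isPrime _ _, Ideal.map_le_iff_le_comap.mp hQI⟩ h1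
    exact h2 ha
  obtain ⟨N, hN⟩ := hrad
  rw [← map_pow, IsLocalization.algebraMap_mem_map_algebraMap_iff P.primeCompl] at hN
  obtain ⟨t, ht, htm⟩ := hN
  exact ⟨t, ht, N, htm⟩

variable {ι : Type} [Finite ι] (π : A) (𝔓 : ι → Ideal A) [∀ i, (𝔓 i).IsPrime]

/-- An element, outside `𝔓 i`, which is zero locally at all the other primes. -/
theorem exists_killer (h𝔓 : ∀ i, 𝔓 i ∈ (Ideal.span {π}).minimalPrimes) (hinj : Function.Injective 𝔓) (i : ι) :
    ∃ s : A, s ∉ 𝔓 i ∧ ∀ j, j ≠ i → ∃ t : A, t ∉ 𝔓 j ∧ t * s ∈ Ideal.span {π} := by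
  classical
  haveI := Fintype.ofFinite ι
  have hj : ∀ j, j ≠ i → ∃ a : A, a ∉ 𝔓 i ∧ ∃ t : A, t ∉ 𝔓 j ∧ t * a ∈ Ideal.span {π} := fun j hji => by
    obtain ⟨a, ha, hai⟩ := SetLike.not_le_iff_exists.mp fun hle =>
      hji (hinj (le_antisymm hle ((h𝔓 i).2 (h𝔓 j).1 hle)))
    obtain ⟨t, ht, N, hN⟩ := exists_mul_pow_mem _ (𝔓 j) (h𝔓 j) ha
    exact ⟨a ^ N, fun h => hai (Ideal.IsPrime.mem_of_pow_mem inferInstance N h), t, ht, hN⟩
  choose a ha t ht hta using hj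
  refine ⟨∏ j : {j // j ≠ i}, a j.1 j.2, fun h => ?_, fun j hj => ⟨t j hj, ht j hj, ?_⟩⟩
  · obtain ⟨j, -, hjm⟩ := (Ideal.IsPrime.prod_mem_iff (hp := inferInstance)).mp h
    exact ha j.1 j.2 hjm
  · rw [← Finset.mul_prod_erase Finset.univ _ (Finset.mem_univ (⟨j, hj⟩ : {j // j ≠ i})), ← mul_assoc]
    exact Ideal.mul_mem_right _ _ (hta j hj)

theorem mem_ker_iff {M : Type u} [AddCommGroup M] [Module A M] (S : Submonoid A) (x : M) :
    x ∈ LinearMap.ker (LocalizedModule.mkLinearMap S M) ↔ ∃ s ∈ S, s • x = 0 := by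
  rw [LinearMap.mem_ker, IsLocalizedModule.eq_zero_iff S (LocalizedModule.mkLinearMap S M)]
  exact ⟨fun ⟨s, hs⟩ => ⟨s, s.2, hs⟩, fun ⟨s, hs, h⟩ => ⟨⟨s, hs⟩, h⟩⟩

theorem mk_eq_zero_iff {M : Type u} [AddCommGroup M] [Module A M] (x : M) :
    Submodule.Quotient.mk (p := Ideal.span {π} • (⊤ : Submodule A M)) x = 0 ↔ ∃ y : M, π • y = x := by
  rw [Submodule.Quotient.mk_eq_zero]
  refine ⟨fun h => ?_, fun ⟨y, hy⟩ => hy ▸ Submodule.smul_mem_smul (Ideal.mem_span_singleton_self π) Submodule.mem_top⟩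
  induction h using Submodule.smul_induction_on' with
  | smul r hr y _ =>
    obtain ⟨c, rfl⟩ := Ideal.mem_span_singleton'.mp hr
    exact ⟨c • y, by rw [← mul_smul, mul_comm]⟩
  | add x _ y _ hx hy =>
    obtain ⟨a, rfl⟩ := hx
    obtain ⟨b, rfl⟩ := hy
    exact ⟨a + b, smul_add π a b⟩

end Groth.Agent.ModifLib
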